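import Groth.Agent.Sga4h.TameExt
import Groth.Agent.S2651
import Groth.Prelude.Def_EGA4b

/-!
# (EX1) The integral closure of a strictly henselian excellent discrete valuation ring in a finite separable extension
-/

set_option autoImplicit false

universe u

namespace K788.DvrExt

open Groth.Agent Groth.Agent.Sga4h

/-- (EX1) -/
theorem exists_dvr_integralClosure (R : Type u) [CommRing R] [IsDomain R] [IsDiscreteValuationRing R] [HenselianLocalRing R]
    [IsSepClosed (IsLocalRing.ResidueField R)] (hR : EGA4.IsExcellent R) (K F : Type u) [Field K] [Field F]
    [Algebra R K] [IsFractionRing R K] [Algebra K F] [Algebra R F] [IsScalarTower R K F] [FiniteDimensional K F]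
    [Algebra.IsSeparable K F] :
    Module.Finite R (integralClosure R F) ∧ IsDiscreteValuationRing (integralClosure R F) ∧
      ∃ h : IsLocalRing (integralClosure R F), HenselianLocalRing (integralClosure R F) ∧
        IsSepClosed (IsLocalRing.ResidueField (integralClosure R F)) ∧ EGA4.IsExcellent (integralClosure R F) := by
  have hR' : EtCoh.IsStrictlyHenselianLocalRing R := ⟨inferInstance, inferInstance⟩
  obtain ⟨h1, h2⟩ := TameExt.isStrictlyHenselianLocalRing R F hR'
  have hfin := TameExt.module_finite R K F
  exact ⟨hfin, TameExt.isDiscreteValuationRing R K F hR', h1.toIsLocalRing, h1, h2, S2651.result R hR _⟩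

end K788.DvrExt
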